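import Groth.Agent.Lib.OneMot6.Points
import Groth.Agent.Lib.GrpQ.Desc
import Groth.Agent.Lib.GrpSch.Basic
import Groth.Agent.H2.Mult.Sheaf
import Mathlib.AlgebraicGeometry.Morphisms.LocalFlatDescent

/-!
# Properties of the projection of an extension with local sections
-/

set_option autoImplicit false
set_option linter.style.haveILetI false
set_option linter.unusedSectionVars false

universe u

open CategoryTheory CategoryTheory.Limits MonoidalCategory CartesianMonoidalCategory MonObj GrpObj AlgebraicGeometry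
open Groth.Agent.Lib

namespace Groth.Agent.Lib.ExtTorus6

variable {S : Scheme.{u}} {A E T : Over S} [GrpObj A] [GrpObj E] [GrpObj T]

/-- Over a section, an extension is the product. -/
theorem isPullback_shear {u : A ⟶ E} {v : E ⟶ T} [IsMonHom u] [IsMonHom v] (hker : AlgGrp.IsKernel u v)
    {U : Over S} {π : U ⟶ T} {σ : U ⟶ E} (hσ : σ ≫ v = π) :
    IsPullback ((fst A U ≫ u) * (snd A U ≫ σ)) (snd A U) v π := by
  haveI : Mono u := GrpQ.kernel_mono hker
  have w : ((fst A U ≫ u) * (snd A U ≫ σ)) ≫ v = snd A U ≫ π := by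
    rw [MonObj.mul_comp, Category.assoc, GrpQ.kernel_comp hker, MonObj.comp_one, _root_.one_mul, Category.assoc, hσ]
  have hl : ∀ z : PullbackCone v π, ∃ m : z.pt ⟶ A, m ≫ u = z.fst / (z.snd ≫ σ) := fun z =>
    (GrpQ.mem_kernel hker _).2 (by rw [GrpObj.div_comp, Category.assoc, hσ, z.condition, div_self'])
  choose m hm using hl
  refine ⟨⟨w⟩, ⟨PullbackCone.IsLimit.mk w (fun z => lift (m z) z.snd) (fun z => ?_) (fun z => lift_snd _ _)
    (fun z x h1 h2 => ?_)⟩⟩
  · rw [MonObj.comp_mul, lift_fst_assoc, lift_snd_assoc, hm, div_mul_cancel]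
  · apply CartesianMonoidalCategory.hom_ext
    · rw [lift_fst, ← cancel_mono u, hm, ← h1, ← h2, MonObj.comp_mul, Category.assoc, Category.assoc,
        mul_div_cancel_right]
    · rw [lift_snd, h2]

/-- Properties of the kernel pass to the projection when there are local sections. -/
theorem prop_of_sections (P : MorphismProperty Scheme.{u}) [P.IsStableUnderBaseChange] [IsZariskiLocalAtTarget P]
    [P.DescendsAlong (@Surjective ⊓ @Flat ⊓ @QuasiCompact)] {u : A ⟶ E} {v : E ⟶ T} [IsMonHom u] [IsMonHom v]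
    (hker : AlgGrp.IsKernel u v) (hP : P A.hom) {I : Type u} (V : I → T.left.Opens) (hV : iSup V = ⊤)
    (hsec : ∀ i, ∃ (U : Over S) (π : U ⟶ T) (p : U.left ⟶ (V i : Scheme.{u})) (σ : U ⟶ E),
      (Surjective p ∧ Flat p ∧ QuasiCompact p) ∧ p ≫ (V i).ι = π.left ∧ σ ≫ v = π) : P v.left := by
  refine IsZariskiLocalAtTarget.of_iSup_eq_top (P := P) V hV fun i => ?_
  obtain ⟨U, π, p, σ, ⟨h1, h2, h3⟩, hp, hσ⟩ := hsec i
  have big : IsPullback ((fst A U ≫ u) * (snd A U ≫ σ)).left (snd A U).left v.left π.left :=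
    (isPullback_shear hker hσ).map (Over.forget S)
  have sq := (isPullback_morphismRestrict v.left (V i)).flip
  let a' := sq.lift ((fst A U ≫ u) * (snd A U ≫ σ)).left ((snd A U).left ≫ p) (by rw [Category.assoc, hp]; exact big.w)
  have small : IsPullback a' (snd A U).left (v.left ∣_ V i) p := by
    refine IsPullback.of_right (h₁₂ := (v.left ⁻¹ᵁ V i).ι) (h₂₂ := (V i).ι) ?_ (sq.lift_snd _ _ _) sq
    rw [sq.lift_fst, hp]
    exact big
  exact MorphismProperty.of_isPullback_of_descendsAlong (P := P) (Q := @Surjective ⊓ @Flat ⊓ @QuasiCompact)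
    small.flip ⟨⟨h1, h2⟩, h3⟩ (GrpSch.snd_left_of (P := P) U hP)

/-- An epimorphism of fppf sheaves onto an affine group has sections over a covering. -/
theorem exists_sections {E T : Over S} [GrpObj E] [IsCommMonObj E] [GrpObj T] [IsCommMonObj T] [IsAffine T.left]
    (v : E ⟶ T) [IsMonHom v] (hv : Epi (CGrpSh.ptsMap Scheme.fppfPrecoverage v)) :
    ∃ (V : T.left → T.left.Opens), iSup V = ⊤ ∧
      ∀ i, ∃ (U : Over S) (π : U ⟶ T) (p : U.left ⟶ (V i : Scheme.{u})) (σ : U ⟶ E),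
        (Surjective p ∧ Flat p ∧ QuasiCompact p) ∧ p ≫ (V i).ι = π.left ∧ σ ≫ v = π := by
  have hR := H2.Mult.liftSieve_mem v hv (𝟙 T)
  rw [GrothendieckTopology.mem_over_iff, Precoverage.mem_toGrothendieck_iff_of_isStableUnderComposition] at hR
  obtain ⟨F, ⟨hj, hF⟩, hle⟩ := hR
  rw [Scheme.jointlySurjectivePrecoverage, Presieve.mem_comap_jointlySurjectivePrecoverage_iff] at hj
  suffices h : ∀ x : T.left, ∃ V : T.left.Opens, x ∈ V ∧
      ∃ (U : Over S) (π : U ⟶ T) (p : U.left ⟶ (V : Scheme.{u})) (σ : U ⟶ E),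
        (Surjective p ∧ Flat p ∧ QuasiCompact p) ∧ p ≫ V.ι = π.left ∧ σ ≫ v = π by
    choose V hxV hsec using h
    exact ⟨V, eq_top_iff.2 fun x _ => TopologicalSpace.Opens.mem_iSup.2 ⟨x, hxV x⟩, hsec⟩
  intro x
  obtain ⟨Y, g, hg, y, hy⟩ := hj x
  haveI : Flat g := (hF hg).1
  haveI : LocallyOfFinitePresentation g := (hF hg).2
  obtain ⟨t, ht⟩ := (Sieve.overEquiv_iff _ g).1 (hle _ _ hg)
  obtain ⟨W, hW, hyW, -⟩ := exists_isAffineOpen_mem_and_subset (X := Y) (x := y) (U := ⊤) trivial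
  haveI : IsAffine (W : Scheme.{u}) := hW
  let q : (W : Scheme.{u}) ⟶ T.left := W.ι ≫ g
  let V : T.left.Opens := ⟨Set.range q, q.isOpenMap.isOpen_range⟩
  let p : (W : Scheme.{u}) ⟶ (V : Scheme.{u}) := IsOpenImmersion.lift V.ι q (by rw [Scheme.Opens.range_ι]; rfl)
  have hp : p ≫ V.ι = q := IsOpenImmersion.lift_fac _ _ _
  haveI : QuasiCompact q := inferInstance
  have hsq : IsPullback (𝟙 (W : Scheme.{u})) p q V.ι := by
    refine ⟨⟨by rw [Category.id_comp, hp]⟩, ⟨PullbackCone.IsLimit.mk _ (fun s => s.fst) (fun s => Category.comp_id _)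
      (fun s => ?_) (fun s m h _ => by rw [← h]; exact (Category.comp_id m).symm)⟩⟩
    rw [← cancel_mono V.ι, Category.assoc, hp, s.condition]
  let U : Over S := Over.mk (q ≫ T.hom)
  let π : U ⟶ T := Over.homMk q rfl
  let r : U ⟶ Over.mk (g ≫ T.hom) := Over.homMk W.ι ((Category.assoc _ _ _).symm)
  refine ⟨V, ⟨⟨y, hyW⟩, hy⟩, U, π, p, r ≫ t, ⟨⟨fun z => ?_⟩, MorphismProperty.of_isPullback (P := @Flat) hsq inferInstance,
    MorphismProperty.of_isPullback (P := @QuasiCompact) hsq inferInstance⟩, hp, ?_⟩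
  · obtain ⟨w, hw⟩ := z.2
    exact ⟨w, V.ι.isOpenEmbedding.injective (by rw [← Scheme.Hom.comp_apply, hp]; exact hw)⟩
  · rw [Category.assoc, ht, Category.comp_id]
    ext1
    rfl

end Groth.Agent.Lib.ExtTorus6
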